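import Groth.Agent.H98Poinc.Mult
import Groth.Agent.SymPhi99.Main

/-!
The Poincaré class pulled back by multiplication by an integer on either factor.
-/

set_option autoImplicit false
set_option maxSynthPendingDepth 6
set_option maxHeartbeats 400000
set_option linter.style.haveILetI false
set_option backward.isDefEq.respectTransparency.types false

noncomputable section

universe u

open CategoryTheory CategoryTheory.Limits MonoidalCategory CartesianMonoidalCategory MonObj GrpObj AlgebraicGeometry
open Groth.Agent.Cube7 Groth.Agent.Cube7.PicCalc Groth.Agent.FGA29 Groth.Agent.H98PicRel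

namespace Groth.Agent.H98Poinc

variable {k : Type u} [Field k] {A At : Over (Spec (CommRingCat.of k))}

/-- The trivial class lies in Pic⁰. -/
theorem isPicZeroCl_one (f : A.left ⟶ Spec (CommRingCat.of k)) (T : Over (Spec (CommRingCat.of k))) :
    AbDual.IsPicZeroCl f T (PicF.cl (Coh.structureModule (PicF.XT f T))) := by
  refine ⟨_, rfl, PicLoc.isInvertible_structureModule _, fun t Ω _ _ σ _ => ?_⟩
  letI : (pullback (PicF.XTproj f T) σ).Over (Spec (CommRingCat.of Ω)) := ⟨pullback.snd _ σ⟩
  haveI : ConnectedSpace (Spec (CommRingCat.of Ω)) := inferInstance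
  have e : ∀ (s : Spec (CommRingCat.of Ω) ⟶ Spec (CommRingCat.of Ω)) (hs : s ≫ 𝟙 _ = 𝟙 _),
      Nonempty (Pic13.fibreMod Ω (pullback (PicF.XTproj f T) σ) (𝟙 _) s hs (Coh.structureModule _) ≅
        Coh.structureModule _) := fun s hs => ⟨PicLoc.pullbackStructureIso _⟩
  obtain ⟨e₁⟩ := e (𝟙 _) (Category.id_comp _)
  exact ⟨_, 𝟙 _, inferInstance, inferInstance, inferInstance, _, PicLoc.isInvertible_structureModule _,
    𝟙 _, 𝟙 _, Category.id_comp _, Category.id_comp _,
    ⟨e₁ ≪≫ (PicLoc.pullbackStructureIso (pullback.fst (PicF.XTproj f T) σ)).symm⟩, ⟨e₁⟩⟩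

variable [GrpObj A] [GrpObj At] {φ : ∀ T : Over (Spec (CommRingCat.of k)), PicF.Cl (PicF.XT A.hom T) → (T ⟶ At)}
  [IsProper A.hom] [Smooth A.hom] [GeometricallyConnected A.hom]

omit [GrpObj A] [IsProper A.hom] [Smooth A.hom] [GeometricallyConnected A.hom] in
theorem phi_one (hφ : AbDual.IsDualAV Scheme.fppfPrecoverage A At φ) (T : Over (Spec (CommRingCat.of k))) :
    φ T (PicF.cl (Coh.structureModule (PicF.XT A.hom T))) = 1 := by
  have h := hφ.mul T _ _ (isPicZeroCl_one A.hom T) (isPicZeroCl_one A.hom T)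
  rw [SymPhi99.cl_iso ⟨EGA73.tensUnitLeft _⟩] at h
  exact mul_eq_left.1 h.symm

/-- The Poincaré class is trivial over the unit of the dual. -/
theorem pb_unit_eq_one (hφ : AbDual.IsDualAV Scheme.fppfPrecoverage A At φ)
    (P : (PicF.XT A.hom At).Modules) (hP : PicF.IsInvertible P)
    (hξ : AbDual.IsPoincareCl A At φ (PicF.cl P)) :
    pb (pullback.lift (𝟙 A.left) (A.hom ≫ η[At].left)
      (by rw [Category.assoc, unit_hom, Category.comp_id, Category.id_comp]) : A.left ⟶ pullback A.hom At.hom)
        (PicGrp.cls P hP) = 1 := by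
  haveI := AbSch7.geometricallyReduced_of_smooth A.hom
  haveI := geometricallyIntegral_of_group A
  obtain ⟨h0, h1, he⟩ := hξ
  let T : Over (Spec (CommRingCat.of k)) := 𝟙_ _
  haveI : IsProper T.hom := inferInstanceAs (IsProper (𝟙 _))
  haveI : IsIntegral T.left := inferInstanceAs (IsIntegral (Spec (CommRingCat.of k)))
  have hes : SymPhi99.eT A T ≫ PicF.XTmap A.hom η[At] = η[At].left ≫ SymPhi99.eT A At := by
    refine pullback.hom_ext ?_ ?_
    · rw [Category.assoc, H98PicRel.XTmap_fst, Category.assoc]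
      erw [pullback.lift_fst, pullback.lift_fst, Category.id_comp, ← Category.assoc, unit_hom, Category.id_comp]
    · rw [Category.assoc, H98PicRel.XTmap_snd, Category.assoc, ← Category.assoc]
      erw [pullback.lift_snd, pullback.lift_snd, Category.comp_id]
      exact Category.id_comp _
  have key : PicF.pullCl (PicF.XTmap A.hom η[At]) (PicF.cl P) = 1 := by
    refine SymPhi99.eq_of_phi_eq hφ.relPic (SymPhi99.isPicZeroCl_pullCl A.hom η[At] h0)
      (isPicZeroCl_one A.hom T) ⟨_, rfl, PicLoc.isInvertible_structureModule _⟩ (_root_.one_mul 1) ?_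
      (SymPhi99.pullCl_one _) ?_
    · rw [← pullCl_comp, hes, pullCl_comp]
      erw [he]
      exact SymPhi99.pullCl_one _
    · rw [hφ.relPic.natural _ _ η[At] _ h0, h1, Category.comp_id]
      refine Eq.trans ?_ (phi_one hφ T).symm
      rw [Hom.one_def, show toUnit T = 𝟙 T from toUnit_unique _ _, Category.id_comp]
  apply Subtype.ext
  show PicF.pullCl _ (PicF.cl P) = _
  rw [show (pullback.lift (𝟙 A.left) (A.hom ≫ η[At].left)
      (by rw [Category.assoc, unit_hom, Category.comp_id, Category.id_comp]) : A.left ⟶ pullback A.hom At.hom) =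
      pullback.lift (𝟙 A.left) A.hom ((Category.id_comp _).trans (Category.comp_id _).symm) ≫
        PicF.XTmap A.hom η[At] from ?_, pullCl_comp, key]
  · exact (SymPhi99.pullCl_one _).trans rfl
  · refine pullback.hom_ext ?_ ?_
    · exact (pullback.lift_fst _ _ _).trans ((Category.assoc _ _ _).trans
        ((congrArg (_ ≫ ·) (H98PicRel.XTmap_fst _ _)).trans (pullback.lift_fst _ _ _))).symm
    · exact (pullback.lift_snd _ _ _).trans ((Category.assoc _ _ _).trans
        ((congrArg (_ ≫ ·) (H98PicRel.XTmap_snd _ _)).trans (pullback.lift_snd_assoc _ _ _ _))).symm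

/-- The two factors: pullback of the Poincaré class along endomorphisms. -/
theorem poincare_pow_inv [IsProper At.hom] [Smooth At.hom] [GeometricallyConnected At.hom]
    (hφ : AbDual.IsDualAV Scheme.fppfPrecoverage A At φ)
    (P : (PicF.XT A.hom At).Modules) (hP : PicF.IsInvertible P)
    (hξ : AbDual.IsPoincareCl A At φ (PicF.cl P)) :
    ((∀ n : ℕ, pb (PicF.XTmap A.hom (𝟙 At ^ n)) (PicGrp.cls P hP) = PicGrp.cls P hP ^ n) ∧
      pb (PicF.XTmap A.hom (𝟙 At)⁻¹) (PicGrp.cls P hP) * PicGrp.cls P hP = 1) ∧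
    ((∀ n : ℕ, pb (AbDual.bcMap (𝟙 A ^ n) At) (PicGrp.cls P hP) = PicGrp.cls P hP ^ n) ∧
      pb (AbDual.bcMap (𝟙 A)⁻¹ At) (PicGrp.cls P hP) * PicGrp.cls P hP = 1) := by
  haveI := AbSch7.geometricallyReduced_of_smooth A.hom
  haveI := AbSch7.geometricallyReduced_of_smooth At.hom
  haveI := geometricallyIntegral_of_group A
  haveI := geometricallyIntegral_of_group At
  haveI : IsIntegral A.left := GeometricallyIntegral.isIntegral_of_subsingleton A.hom
  haveI : IsIntegral At.left := GeometricallyIntegral.isIntegral_of_subsingleton At.hom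
  have hu := pb_unit_eq_one hφ P hP hξ
  set ξ : PicLoc.PicSet (pullback A.hom At.hom) := PicGrp.cls P hP with hξdef
  have he : pb (pullback.lift (At.hom ≫ η[A].left) (𝟙 At.left)
      (by rw [Category.assoc, unit_hom, Category.comp_id, Category.id_comp]) : At.left ⟶ pullback A.hom At.hom) ξ = 1 :=
    Subtype.ext hξ.2.2
  refine ⟨?_, pow_and_inv ξ he η[At].left (unit_hom At) hu⟩
  let sy : pullback At.hom A.hom ⟶ pullback A.hom At.hom := (pullbackSymmetry At.hom A.hom).hom
  have h := pow_and_inv (X := At) (Z := A) (pb sy ξ) ?_ η[A].left (unit_hom A) ?_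
  · have hsy : ∀ f : At ⟶ At, pb sy (pb (PicF.XTmap A.hom f) ξ) = pb (AbDual.bcMap f A) (pb sy ξ) := by
      intro f
      rw [← pb_comp, ← pb_comp]
      refine congrArg (fun g => pb g ξ) (pullback.hom_ext ?_ ?_)
      · rw [Category.assoc, Category.assoc, H98PicRel.XTmap_fst, pullbackSymmetry_hom_comp_fst]
        exact ((pullback.lift_snd _ _ _).trans (Category.comp_id _)).symm
      · rw [Category.assoc, Category.assoc, H98PicRel.XTmap_snd, pullbackSymmetry_hom_comp_snd, ← Category.assoc,
          pullbackSymmetry_hom_comp_snd]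
        exact (pullback.lift_fst _ _ _).symm
    have inj : Function.Injective (pb sy) := fun a b hab => by
      have := congrArg (pb (pullbackSymmetry At.hom A.hom).inv) hab
      rwa [← pb_comp, ← pb_comp, Iso.inv_hom_id, pb_id, pb_id] at this
    refine ⟨fun n => inj ?_, inj ?_⟩
    · rw [hsy, map_pow]
      exact h.1 n
    · rw [map_mul, hsy, map_one]
      exact h.2
  · rw [← pb_comp]
    refine (congrArg (fun g => pb g ξ) (pullback.hom_ext ?_ ?_)).trans hu
    · rw [Category.assoc, pullbackSymmetry_hom_comp_fst, pullback.lift_snd, pullback.lift_fst]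
    · rw [Category.assoc, pullbackSymmetry_hom_comp_snd, pullback.lift_fst, pullback.lift_snd]
  · rw [← pb_comp]
    refine (congrArg (fun g => pb g ξ) (pullback.hom_ext ?_ ?_)).trans he
    · rw [Category.assoc, pullbackSymmetry_hom_comp_fst, pullback.lift_snd, pullback.lift_fst]
    · rw [Category.assoc, pullbackSymmetry_hom_comp_snd, pullback.lift_fst, pullback.lift_snd]

end Groth.Agent.H98Poinc
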