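import Groth.Agent.AbDual95.PicZero

/-!
A class on `X ×_k Z`, rigidified along the unit of the abelian variety `X` and trivial over one point of the
connected scheme `Z`, depends multiplicatively on endomorphisms of `X`.
-/

set_option autoImplicit false
set_option maxSynthPendingDepth 6
set_option maxHeartbeats 400000
set_option linter.style.haveILetI false
set_option backward.isDefEq.respectTransparency.types false

noncomputable section

universe u

open CategoryTheory CategoryTheory.Limits MonoidalCategory CartesianMonoidalCategory MonObj GrpObj AlgebraicGeometry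
open Groth.Agent.Cube7 Groth.Agent.Cube7.PicCalc Groth.Agent.AbDual95

namespace Groth.Agent.H98Poinc

variable {k : Type u} [Field k] {X Z : Over (Spec (CommRingCat.of k))}

theorem map_left_eq_bcMap {W : Over (Spec (CommRingCat.of k))} (f : W ⟶ X) :
    ((Over.pullback Z.hom).map f).left = AbDual.bcMap f Z := by
  refine pullback.hom_ext ?_ ?_
  · show pullback.lift (pullback.fst _ _ ≫ f.left) (pullback.snd _ _) _ ≫ _ =
      pullback.lift (pullback.fst _ _ ≫ f.left) (pullback.snd _ _ ≫ 𝟙 Z.left) _ ≫ _
    rw [pullback.lift_fst, pullback.lift_fst]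
  · show pullback.lift (pullback.fst _ _ ≫ f.left) (pullback.snd _ _) _ ≫ _ =
      pullback.lift (pullback.fst _ _ ≫ f.left) (pullback.snd _ _ ≫ 𝟙 Z.left) _ ≫ _
    rw [pullback.lift_snd, pullback.lift_snd, Category.comp_id]

variable [GrpObj X] [IsProper X.hom] [Smooth X.hom] [GeometricallyConnected X.hom]

/-- Pullback along endomorphisms of the first factor is a homomorphism of monoids. -/
theorem pow_and_inv [ConnectedSpace Z.left] (l : PicLoc.PicSet (pullback X.hom Z.hom))
    (h1 : pb (pullback.lift (Z.hom ≫ η[X].left) (𝟙 Z.left)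
      (by rw [Category.assoc, unit_hom, Category.comp_id, Category.id_comp])) l = 1)
    (z : Spec (CommRingCat.of k) ⟶ Z.left) (hz : z ≫ Z.hom = 𝟙 _)
    (h2 : pb (pullback.lift (𝟙 X.left) (X.hom ≫ z)
      (by rw [Category.assoc, hz, Category.comp_id, Category.id_comp])) l = 1) :
    (∀ n : ℕ, pb (AbDual.bcMap (𝟙 X ^ n) Z) l = l ^ n) ∧ pb (AbDual.bcMap (𝟙 X)⁻¹ Z) l * l = 1 := by
  let F := Over.pullback Z.hom
  let X₀ := F.obj X
  letI : GrpObj X₀ := Functor.grpObjObj (F := F) (G := X)
  haveI : IsProper X₀.hom := inferInstanceAs (IsProper (pullback.snd X.hom Z.hom))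
  haveI : Smooth X₀.hom := inferInstanceAs (Smooth (pullback.snd X.hom Z.hom))
  haveI : GeometricallyConnected X₀.hom := inferInstanceAs (GeometricallyConnected (pullback.snd X.hom Z.hom))
  haveI := AbSch7.geometricallyReduced_of_smooth X₀.hom
  have e1 : pb η[X₀].left (show PicLoc.PicSet X₀.left from l) = 1 := by
    rw [unit_pullback_left X Z.hom]
    exact h1
  have e2 : PrimOver X₀ (show PicLoc.PicSet X₀.left from l) z := by
    intro V v x y
    have key : ∀ w : Over.mk (v ≫ z) ⟶ X₀, pt X₀ (show PicLoc.PicSet X₀.left from l) w = 1 := by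
      intro w
      have hw : w.left = (w.left ≫ pullback.fst X.hom Z.hom) ≫
          pullback.lift (𝟙 X.left) (X.hom ≫ z) (by rw [Category.assoc, hz, Category.comp_id, Category.id_comp]) := by
        have hv : w.left ≫ pullback.snd X.hom Z.hom = v ≫ z := Over.w w
        refine pullback.hom_ext ?_ ?_
        · erw [Category.assoc, pullback.lift_fst, Category.comp_id]
        · erw [Category.assoc, pullback.lift_snd, Category.assoc, pullback.condition_assoc, reassoc_of% hv,
            reassoc_of% hz]
          exact hv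
      rw [pt, hw]
      erw [pb_comp, h2, map_one]
    rw [prim, key, key, key, _root_.mul_one, div_self']
  have hprim := fun (f g : X ⟶ X) => (div_eq_one.1 (prim_eq_one_of_connected e1 z (IsLocalRing.closedPoint k) e2
    (Functor.homMonoidHom F f : X₀ ⟶ X₀) (Functor.homMonoidHom F g)) :)
  let ψ : (X ⟶ X) → PicLoc.PicSet (pullback X.hom Z.hom) := fun f => pb (AbDual.bcMap f Z) l
  have hψ : ∀ f, ψ f = pt X₀ (show PicLoc.PicSet X₀.left from l) (Functor.homMonoidHom F f : X₀ ⟶ X₀) := fun f =>
    congrArg (fun g => pb g l) (map_left_eq_bcMap f).symm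
  have hmul : ∀ f g, ψ (f * g) = ψ f * ψ g := fun f g => by
    rw [hψ, hψ, hψ, map_mul]
    exact hprim f g
  have hone : ψ 1 = 1 := by
    rw [hψ, map_one]
    exact pt_one e1 _
  have hid : ψ (𝟙 X) = l := by
    show pb (AbDual.bcMap (𝟙 X) Z) l = l
    rw [show AbDual.bcMap (𝟙 X) Z = 𝟙 _ from pullback.hom_ext (by simp [AbDual.bcMap]) (by simp [AbDual.bcMap]),
      pb_id]
  let Ψ : (X ⟶ X) →* PicLoc.PicSet (pullback X.hom Z.hom) :=
    { toFun := ψ, map_one' := hone, map_mul' := hmul }
  refine ⟨fun n => ?_, ?_⟩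
  · show Ψ (𝟙 X ^ n) = l ^ n
    rw [map_pow]
    exact congrArg (· ^ n) hid
  · refine (congrArg (ψ (𝟙 X)⁻¹ * ·) hid.symm).trans ?_
    rw [← hmul, inv_mul_cancel]
    exact hone

end Groth.Agent.H98Poinc
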